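/-
helper44: S2647 project (2-fusion system of Ω₇(q), q ≡ ±3 mod 8, is simple).  Common definitions.
Model: `F^7` with the form `c · Σ xᵢ²`; monomial isometries `mon c ε σ` (`ε` a sign vector, `σ` a permutation of `Fin 7`),
`(mon c ε σ) e_i = ε_{σ i} e_{σ i}`; the subgroup `S0 c = {mon c ε σ | ∏ ε = 1, σ ∈ d8}` of order `2^9` and its
diagonal subgroup `E0 c`.  All declarations live in `Cfsg.Agent.Lib.Helper44.O7`.
-/
import Cfsg.Agent.Lib.Helper44.DiagOrth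

set_option autoImplicit false
set_option linter.unusedSectionVars false

namespace Cfsg.Agent.Lib.Helper44.O7

open Matrix Cfsg.Agent.Lib.Helper44

variable {F : Type*} [Field F]

/-- constant weight vector -/
abbrev cw (c : F) : Fin 7 → F := fun _ => c

/-- the orthogonal group of `c · Σ xᵢ²` on `F^7` -/
abbrev OG (c : F) : Subgroup (GL (Fin 7) F) := Cfsg.isometryGroup F (⇑(wssF (cw c)))

/-- its commutator subgroup `Ω₇` -/
abbrev OmG (c : F) : Subgroup ↥(OG c) := Cfsg.Omega F (⇑(wssF (cw c)))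

theorem p_apply_inv (σ : Equiv.Perm (Fin 7)) (k : Fin 7) : σ (σ⁻¹ k) = k := σ.apply_symm_apply k
theorem p_inv_apply (σ : Equiv.Perm (Fin 7)) (k : Fin 7) : σ⁻¹ (σ k) = k := σ.symm_apply_apply k

/-- monomial isometry: `(mon c ε σ) v = fun k => ε k * v (σ⁻¹ k)`, so `e_i ↦ ε (σ i) • e_(σ i)`. -/
def mon (c : F) (ε : Fin 7 → ℤˣ) (σ : Equiv.Perm (Fin 7)) : ↥(OG c) :=
  ⟨monoGL σ⁻¹ (fun k => signUnit (ε k)), by
    apply mem_isometryGroup_of_mulVec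
    intro v
    rw [monoGL_mulVec, wssF_apply, wssF_apply]
    rw [← Equiv.sum_comp σ⁻¹ (fun k => cw c k * (v k * v k))]
    apply Finset.sum_congr rfl
    intro k _
    have := signUnit_sq (F := F) (ε k)
    linear_combination (c * (v (σ⁻¹ k) * v (σ⁻¹ k))) * this⟩

theorem mon_mulVec (c : F) (ε : Fin 7 → ℤˣ) (σ : Equiv.Perm (Fin 7)) (v : Fin 7 → F) :
    ((mon c ε σ : GL (Fin 7) F) : Matrix (Fin 7) (Fin 7) F).mulVec v =
      fun k => ((ε k : ℤ) : F) * v (σ⁻¹ k) := by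
  show (monoGL σ⁻¹ (fun k => signUnit (ε k)) : GL (Fin 7) F).1.mulVec v = _
  rw [monoGL_mulVec]
  rfl

theorem mon_mulVec_single (c : F) (ε : Fin 7 → ℤˣ) (σ : Equiv.Perm (Fin 7)) (i : Fin 7) :
    ((mon c ε σ : GL (Fin 7) F) : Matrix (Fin 7) (Fin 7) F).mulVec (Pi.single i 1) =
      ((ε (σ i) : ℤ) : F) • Pi.single (σ i) (1 : F) := by
  rw [mon_mulVec]
  funext k
  by_cases hk : k = σ i
  · subst hk
    simp
  · have : σ⁻¹ k ≠ i := by
      intro h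
      apply hk
      rw [← h]
      simp
    rw [Pi.smul_apply, Pi.single_eq_of_ne hk, Pi.single_eq_of_ne this]
    simp

theorem ext_mulVec {c : F} {a b : ↥(OG c)}
    (h : ∀ v, ((a : GL (Fin 7) F) : Matrix (Fin 7) (Fin 7) F).mulVec v =
      ((b : GL (Fin 7) F) : Matrix (Fin 7) (Fin 7) F).mulVec v) : a = b :=
  Subtype.ext (GL_ext_mulVec h)

theorem mul_mulVec {c : F} (a b : ↥(OG c)) (v : Fin 7 → F) :
    (((a * b : ↥(OG c)) : GL (Fin 7) F) : Matrix (Fin 7) (Fin 7) F).mulVec v =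
      ((a : GL (Fin 7) F) : Matrix (Fin 7) (Fin 7) F).mulVec
        (((b : GL (Fin 7) F) : Matrix (Fin 7) (Fin 7) F).mulVec v) := by
  show ((a : GL (Fin 7) F).1 * (b : GL (Fin 7) F).1).mulVec v = _
  rw [Matrix.mulVec_mulVec]

theorem one_mulVec' {c : F} (v : Fin 7 → F) :
    (((1 : ↥(OG c)) : GL (Fin 7) F) : Matrix (Fin 7) (Fin 7) F).mulVec v = v := by
  show (1 : Matrix (Fin 7) (Fin 7) F).mulVec v = v
  rw [Matrix.one_mulVec]

/-- multiplication law: the semidirect product `2^7 ⋊ S₇`, `σ` acting on sign vectors by `ε ↦ ε ∘ σ⁻¹`. -/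
theorem mon_mul (c : F) (ε ε' : Fin 7 → ℤˣ) (σ σ' : Equiv.Perm (Fin 7)) :
    mon c ε σ * mon c ε' σ' = mon c (fun k => ε k * ε' (σ⁻¹ k)) (σ * σ') := by
  apply ext_mulVec
  intro v
  rw [mul_mulVec, mon_mulVec, mon_mulVec, mon_mulVec]
  funext k
  have h1 : (σ * σ')⁻¹ k = σ'⁻¹ (σ⁻¹ k) := by
    rw [_root_.mul_inv_rev, Equiv.Perm.mul_apply]
  rw [h1]
  simp only [Units.val_mul, Int.cast_mul]
  ring

theorem mon_one (c : F) : mon c 1 1 = 1 := by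
  apply ext_mulVec
  intro v
  rw [mon_mulVec, one_mulVec']
  funext k
  simp

theorem mon_inv (c : F) (ε : Fin 7 → ℤˣ) (σ : Equiv.Perm (Fin 7)) :
    (mon c ε σ)⁻¹ = mon c (fun k => ε (σ k)) σ⁻¹ := by
  apply inv_eq_of_mul_eq_one_right
  rw [mon_mul, ← mon_one c]
  congr 1
  · funext k
    rw [p_apply_inv σ k, Pi.one_apply]
    exact units_int_mul_self (ε k)
  · simp

/-- the diagonal elements are `dsign` -/
theorem mon_eq_dsign (c : F) (ε : Fin 7 → ℤˣ) : mon c ε 1 = dsign (cw c) ε := by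
  apply ext_mulVec
  intro v
  rw [mon_mulVec, dsign_mulVec]
  funext k
  simp

theorem mon_eq_mul (c : F) (ε : Fin 7 → ℤˣ) (σ : Equiv.Perm (Fin 7)) :
    mon c ε σ = mon c ε 1 * mon c 1 σ := by
  rw [mon_mul]
  congr 1
  funext k; simp

/-- conjugation of a diagonal element by a monomial one -/
theorem mon_conj_diag (c : F) (ε ε' : Fin 7 → ℤˣ) (σ : Equiv.Perm (Fin 7)) :
    mon c ε σ * mon c ε' 1 * (mon c ε σ)⁻¹ = mon c (fun k => ε' (σ⁻¹ k)) 1 := by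
  rw [mon_inv, mon_mul, mon_mul]
  congr 1
  · funext k
    have h1 : (σ * 1)⁻¹ k = σ⁻¹ k := by rw [mul_one]
    rw [h1, p_apply_inv σ k, mul_comm (ε k), mul_assoc, units_int_mul_self, mul_one]
  · simp

/-- conjugation of a monomial element by a monomial one: the permutation part is conjugated -/
theorem mon_conj (c : F) (ε ε' : Fin 7 → ℤˣ) (σ σ' : Equiv.Perm (Fin 7)) :
    ∃ ε'' : Fin 7 → ℤˣ, mon c ε σ * mon c ε' σ' * (mon c ε σ)⁻¹ = mon c ε'' (σ * σ' * σ⁻¹) ∧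
      ∏ k, ε'' k = ∏ k, ε' k := by
  refine ⟨_, by rw [mon_inv, mon_mul, mon_mul], ?_⟩
  rw [Finset.prod_mul_distrib, Finset.prod_mul_distrib]
  have h1 : ∏ k, ε ((σ * σ')⁻¹ k |> σ) = ∏ k, ε k := by
    have : (fun k => ε ((σ * σ')⁻¹ k |> σ)) = fun k => ε ((σ * σ'⁻¹ * σ⁻¹) k) := by
      funext k; simp
    rw [this]
    exact Equiv.prod_comp (σ * σ'⁻¹ * σ⁻¹) ε
  have h2 : ∏ k, ε' (σ⁻¹ k) = ∏ k, ε' k := Equiv.prod_comp σ⁻¹ ε'
  have h3 : (∏ k, ε k) * (∏ k, ε k) = 1 := units_int_mul_self _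
  rw [h2]
  calc (∏ k, ε k) * (∏ k, ε' k) * ∏ k, ε (σ ((σ * σ')⁻¹ k))
      = (∏ k, ε k) * (∏ k, ε' k) * ∏ k, ε k := by rw [← h1]
    _ = ((∏ k, ε k) * (∏ k, ε k)) * ∏ k, ε' k := by
        rw [mul_comm (∏ k, ε k) (∏ k, ε' k), mul_assoc, mul_comm]
    _ = ∏ k, ε' k := by rw [h3, one_mul]

theorem mon_injective (h2 : (2 : F) ≠ 0) (c : F) {ε ε' : Fin 7 → ℤˣ} {σ σ' : Equiv.Perm (Fin 7)}
    (h : mon c ε σ = mon c ε' σ') : ε = ε' ∧ σ = σ' := by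
  have hne : ∀ e : ℤˣ, ((e : ℤ) : F) ≠ 0 := by
    intro e
    rcases Int.units_eq_one_or e with rfl | rfl <;> simp
  have hσ : σ = σ' := by
    ext i
    have h1 := congrArg (fun g : ↥(OG c) =>
      ((g : GL (Fin 7) F) : Matrix (Fin 7) (Fin 7) F).mulVec (Pi.single i 1) (σ i)) h
    simp only [mon_mulVec_single] at h1
    by_contra hne'
    have hne'' : σ i ≠ σ' i := fun h => hne' (congrArg Fin.val h)
    simp [hne''] at h1
    exact hne _ h1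
  subst hσ
  refine ⟨?_, rfl⟩
  have hd : dsign (cw c) ε = dsign (cw c) ε' := by
    rw [← mon_eq_dsign, ← mon_eq_dsign]
    have h3 : mon c ε σ * (mon c 1 σ)⁻¹ = mon c ε' σ * (mon c 1 σ)⁻¹ := by rw [h]
    rw [mon_eq_mul c ε σ, mon_eq_mul c ε' σ, mul_inv_cancel_right, mul_inv_cancel_right] at h3
    exact h3
  exact dsign_injective h2 (cw c) hd

/-! ### The dihedral group `d8 ≤ A₇` and the sign vectors of product one -/

/-- a permutation of `Fin 7` from its table and the table of its inverse (kernel-friendly) -/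
def mkP (f g : Fin 7 → Fin 7) (h1 : ∀ x, g (f x) = x) (h2 : ∀ x, f (g x) = x) : Equiv.Perm (Fin 7) :=
  ⟨f, g, h1, h2⟩

/-- `(0 1 2 3)(4 5)` -/
def aP : Equiv.Perm (Fin 7) := mkP ![1,2,3,0,5,4,6] ![3,0,1,2,5,4,6] (by decide) (by decide)
/-- `(0 2)(1 3) = aP ^ 2` -/
def a2P : Equiv.Perm (Fin 7) := mkP ![2,3,0,1,4,5,6] ![2,3,0,1,4,5,6] (by decide) (by decide)
/-- `(0 3 2 1)(4 5) = aP ^ 3` -/
def a3P : Equiv.Perm (Fin 7) := mkP ![3,0,1,2,5,4,6] ![1,2,3,0,5,4,6] (by decide) (by decide)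
/-- `(0 2)(4 5)` -/
def bP : Equiv.Perm (Fin 7) := mkP ![2,1,0,3,5,4,6] ![2,1,0,3,5,4,6] (by decide) (by decide)
/-- `(1 3)(4 5)` -/
def b2P : Equiv.Perm (Fin 7) := mkP ![0,3,2,1,5,4,6] ![0,3,2,1,5,4,6] (by decide) (by decide)
/-- `(0 1)(2 3)` -/
def tP : Equiv.Perm (Fin 7) := mkP ![1,0,3,2,4,5,6] ![1,0,3,2,4,5,6] (by decide) (by decide)
/-- `(0 3)(1 2)` -/
def t2P : Equiv.Perm (Fin 7) := mkP ![3,2,1,0,4,5,6] ![3,2,1,0,4,5,6] (by decide) (by decide)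

/-- the eight elements of the dihedral group `⟨aP, bP⟩`, a Sylow 2-subgroup of `A₇` -/
def d8list : List (Equiv.Perm (Fin 7)) := [1, aP, a2P, a3P, bP, b2P, tP, t2P]

theorem mem_d8list {σ : Equiv.Perm (Fin 7)} : σ ∈ d8list ↔
    σ = 1 ∨ σ = aP ∨ σ = a2P ∨ σ = a3P ∨ σ = bP ∨ σ = b2P ∨ σ = tP ∨ σ = t2P := by
  simp [d8list]

set_option maxRecDepth 100000 in
theorem d8list_inv : ∀ a ∈ d8list, a⁻¹ ∈ d8list := by
  intro a ha
  rw [mem_d8list] at ha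
  rcases ha with rfl | rfl | rfl | rfl | rfl | rfl | rfl | rfl <;> decide

set_option maxRecDepth 100000 in
set_option maxHeartbeats 1000000 in
theorem d8list_mul : ∀ a ∈ d8list, ∀ b ∈ d8list, a * b ∈ d8list := by
  intro a ha b hb
  rw [mem_d8list] at ha hb
  rcases ha with rfl | rfl | rfl | rfl | rfl | rfl | rfl | rfl <;>
  rcases hb with rfl | rfl | rfl | rfl | rfl | rfl | rfl | rfl <;> decide

/-- the dihedral group of order 8 -/
def d8 : Subgroup (Equiv.Perm (Fin 7)) where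
  carrier := {σ | σ ∈ d8list}
  mul_mem' := fun {a b} ha hb => d8list_mul a ha b hb
  one_mem' := by
    show (1 : Equiv.Perm (Fin 7)) ∈ d8list
    simp [d8list]
  inv_mem' := fun {a} ha => d8list_inv a ha

theorem mem_d8 {σ : Equiv.Perm (Fin 7)} : σ ∈ d8 ↔
    σ = 1 ∨ σ = aP ∨ σ = a2P ∨ σ = a3P ∨ σ = bP ∨ σ = b2P ∨ σ = tP ∨ σ = t2P := mem_d8list

set_option maxRecDepth 100000 in
theorem pow_four_of_mem_d8 {σ : Equiv.Perm (Fin 7)} (h : σ ∈ d8) : σ ^ 4 = 1 := by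
  rw [mem_d8] at h
  rcases h with rfl | rfl | rfl | rfl | rfl | rfl | rfl | rfl <;> decide

set_option maxRecDepth 100000 in
theorem sign_of_mem_d8 {σ : Equiv.Perm (Fin 7)} (h : σ ∈ d8) : Equiv.Perm.sign σ = 1 := by
  rw [mem_d8] at h
  rcases h with rfl | rfl | rfl | rfl | rfl | rfl | rfl | rfl <;> decide

/-- the product of the entries of a sign vector -/
def prodHom : (Fin 7 → ℤˣ) →* ℤˣ where
  toFun ε := ∏ k, ε k
  map_one' := by simp
  map_mul' ε ε' := by simp [Finset.prod_mul_distrib]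

theorem prodHom_apply (ε : Fin 7 → ℤˣ) : prodHom ε = ∏ k, ε k := rfl

/-- sign vectors with an even number of `-1` -/
def evenSign : Subgroup (Fin 7 → ℤˣ) := prodHom.ker

theorem mem_evenSign {ε : Fin 7 → ℤˣ} : ε ∈ evenSign ↔ ∏ k, ε k = 1 := MonoidHom.mem_ker

/-- the 2-group `2^6 : D₈` of monomial isometries -/
def S0 (c : F) : Subgroup ↥(OG c) where
  carrier := {g | ∃ ε ∈ evenSign, ∃ σ ∈ d8, g = mon c ε σ}
  mul_mem' := by
    rintro _ _ ⟨ε, hε, σ, hσ, rfl⟩ ⟨ε', hε', σ', hσ', rfl⟩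
    refine ⟨_, ?_, σ * σ', d8.mul_mem hσ hσ', mon_mul c ε ε' σ σ'⟩
    rw [mem_evenSign] at hε hε' ⊢
    rw [Finset.prod_mul_distrib, hε, Equiv.prod_comp σ⁻¹ ε', hε', one_mul]
  one_mem' := ⟨1, evenSign.one_mem, 1, d8.one_mem, (mon_one c).symm⟩
  inv_mem' := by
    rintro _ ⟨ε, hε, σ, hσ, rfl⟩
    refine ⟨_, ?_, σ⁻¹, d8.inv_mem hσ, mon_inv c ε σ⟩
    rw [mem_evenSign] at hε ⊢
    rw [Equiv.prod_comp σ ε, hε]

theorem mem_S0 {c : F} {g : ↥(OG c)} :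
    g ∈ S0 c ↔ ∃ ε ∈ evenSign, ∃ σ ∈ d8, g = mon c ε σ := Iff.rfl

/-- the diagonal subgroup `2^6` -/
def E0 (c : F) : Subgroup ↥(OG c) where
  carrier := {g | ∃ ε ∈ evenSign, g = mon c ε 1}
  mul_mem' := by
    rintro _ _ ⟨ε, hε, rfl⟩ ⟨ε', hε', rfl⟩
    refine ⟨ε * ε', evenSign.mul_mem hε hε', ?_⟩
    rw [mon_mul]
    congr 1
  one_mem' := ⟨1, evenSign.one_mem, (mon_one c).symm⟩
  inv_mem' := by
    rintro _ ⟨ε, hε, rfl⟩
    refine ⟨ε, hε, ?_⟩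
    rw [mon_inv]
    congr 1

theorem mem_E0 {c : F} {g : ↥(OG c)} : g ∈ E0 c ↔ ∃ ε ∈ evenSign, g = mon c ε 1 := Iff.rfl

theorem E0_le_S0 (c : F) : E0 c ≤ S0 c := by
  rintro _ ⟨ε, hε, rfl⟩
  exact ⟨ε, hε, 1, d8.one_mem, rfl⟩

/-- the sign vector with `-1` exactly at the positions `0` and `1` -/
def d01 : Fin 7 → ℤˣ := fun k => if k = 0 ∨ k = 1 then -1 else 1

theorem d01_mem : d01 ∈ evenSign := by
  rw [mem_evenSign]
  decide

end Cfsg.Agent.Lib.Helper44.O7
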