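/-
helper44: S2647 project — module [CENTER], proved by helper67 in `Cfsg.Agent.Lib.Helper67.O7Center`; this file
restates the two facts in the namespace `Cfsg.Agent.Lib.Helper44.O7` used by the assembly.
-/
import Cfsg.Agent.Lib.Helper44.O7.Defs
import Cfsg.Agent.Lib.Helper67.O7Center

set_option autoImplicit false

namespace Cfsg.Agent.Lib.Helper44.O7
open Matrix Cfsg.Agent.Lib.Helper44

variable {F : Type*} [Field F]

/-- every element of `S0` has order dividing `8`. -/
theorem pow_eight_of_mem_S0 (c : F) (g : ↥(OG c)) (hg : g ∈ S0 c) : g ^ 8 = 1 :=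
  Cfsg.Agent.Lib.Helper67.O7Center.pow_eight_of_mem_S0 c g hg

/-- a nontrivial normal subgroup of the 2-group `S0` contains a nontrivial diagonal element. -/
theorem exists_diag_of_normal (h2 : (2 : F) ≠ 0) (c : F) (T : Subgroup ↥(OG c)) (hT : T ≤ S0 c) (hne : T ≠ ⊥)
    (hnorm : ∀ s ∈ S0 c, ∀ x ∈ T, s * x * s⁻¹ ∈ T) : ∃ ε ∈ evenSign, ε ≠ 1 ∧ mon c ε 1 ∈ T :=
  Cfsg.Agent.Lib.Helper67.O7Center.exists_diag_of_normal h2 c T hT hne hnorm

end Cfsg.Agent.Lib.Helper44.O7
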