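/-
helper44: S2647 project — module [CONJ].  The `sorry`s below are PLACEHOLDERS for a module farmed out on the board;
when the module lands, this file imports the prover's file and the `sorry` becomes `exact`.
All declarations live in `Cfsg.Agent.Lib.Helper44.O7`.
-/
import Cfsg.Agent.Lib.Helper44.O7.Defs
import Cfsg.Agent.Lib.Helper45.O7Conj

set_option autoImplicit false

namespace Cfsg.Agent.Lib.Helper44.O7
open Matrix Cfsg.Agent.Lib.Helper44

variable {F : Type*} [Field F]

/-- the permutation matrix of `(0 1)(2 3)` is conjugate in `Ω₇` to `diag(-1,-1,1,1,1,1,1)`. -/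
theorem exists_conj_tP [Fintype F] (h2 : (2 : F) ≠ 0) (c : F) (hc : c ≠ 0) :
    ∃ g ∈ OmG c, g * mon c d01 1 * g⁻¹ = mon c 1 tP :=
  Cfsg.Agent.Lib.Helper45.O7.exists_conj_tP h2 c hc

end Cfsg.Agent.Lib.Helper44.O7
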