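/-
helper44: S2647 project — module [IRRED].  The `sorry`s below are PLACEHOLDERS for a module farmed out on the board;
when the module lands, this file imports the prover's file and the `sorry` becomes `exact`.
All declarations live in `Cfsg.Agent.Lib.Helper44.O7`.
-/
import Cfsg.Agent.Lib.Helper44.O7.Defs
import Cfsg.Agent.Lib.Helper33.O7Irred

set_option autoImplicit false

namespace Cfsg.Agent.Lib.Helper44.O7

/-- the even-weight sign vectors form an irreducible module for `A₇`. -/
theorem evenSign_irreducible (Λ : Subgroup (Fin 7 → ℤˣ)) (hΛ : Λ ≤ evenSign) (hne : Λ ≠ ⊥)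
    (hinv : ∀ σ : Equiv.Perm (Fin 7), Equiv.Perm.sign σ = 1 → ∀ ε ∈ Λ, (fun k => ε (σ⁻¹ k)) ∈ Λ) :
    Λ = evenSign :=
  Cfsg.Agent.Lib.Helper33.O7.evenSign_irreducible Λ hΛ hne hinv

end Cfsg.Agent.Lib.Helper44.O7
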