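/-
helper44: S2647 project — module [MON].  The `sorry`s below are PLACEHOLDERS for a module farmed out on the board;
when the module lands, this file imports the prover's file and the `sorry` becomes `exact`.
All declarations live in `Cfsg.Agent.Lib.Helper44.O7`.
-/
import Cfsg.Agent.Lib.Helper44.O7.Defs
import Cfsg.Agent.Lib.Helper43.O7Mon

set_option autoImplicit false

namespace Cfsg.Agent.Lib.Helper44.O7
open Matrix Cfsg.Agent.Lib.Helper44

variable {F : Type*} [Field F]

/-- a monomial isometry lies in `Ω₇` iff its sign vector has product one and its permutation is even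
(2 is a non-square: `q ≡ ±3 mod 8`). -/
theorem mon_mem_OmG_iff [Fintype F] (h2 : (2 : F) ≠ 0) (hns : ¬ IsSquare (2 : F)) (c : F) (hc : c ≠ 0)
    (ε : Fin 7 → ℤˣ) (σ : Equiv.Perm (Fin 7)) :
    mon c ε σ ∈ OmG c ↔ (∏ k, ε k = 1 ∧ Equiv.Perm.sign σ = 1) :=
  Cfsg.Agent.Lib.Helper43.O7.mon_mem_OmG_iff h2 hns c hc ε σ

end Cfsg.Agent.Lib.Helper44.O7
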