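/-
helper44: S2647 project — module [ABEL].  The `sorry`s below are PLACEHOLDERS for a module farmed out on the board;
when the module lands, this file imports the prover's file and the `sorry` becomes `exact`.
All declarations live in `Cfsg.Agent.Lib.Helper44.O7`.
-/
import Cfsg.Agent.Lib.Helper44.O7.Defs
import Cfsg.Agent.Lib.Helper50.O7Abel

set_option autoImplicit false

namespace Cfsg.Agent.Lib.Helper44.O7
open Matrix Cfsg.Agent.Lib.Helper44

variable {F : Type*} [Field F]

theorem card_E0 (h2 : (2 : F) ≠ 0) (c : F) : Nat.card (E0 c) = 64 :=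
  Cfsg.Agent.Lib.Helper50.O7.card_E0 h2 c

/-- `E0` is the unique abelian subgroup of order `64` of `S0`. -/
theorem E0_unique_abelian (h2 : (2 : F) ≠ 0) (c : F) (A : Subgroup ↥(OG c)) (hA : A ≤ S0 c)
    (hcomm : ∀ x ∈ A, ∀ y ∈ A, x * y = y * x) (hcard : Nat.card A = 64) : A = E0 c :=
  Cfsg.Agent.Lib.Helper50.O7.E0_unique_abelian h2 c A hA hcomm hcard

end Cfsg.Agent.Lib.Helper44.O7
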