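/-
helper44: S2647 project — module [ISO].  The `sorry`s below are PLACEHOLDERS for a module farmed out on the board;
when the module lands, this file imports the prover's file and the `sorry` becomes `exact`.
All declarations live in `Cfsg.Agent.Lib.Helper44.O7`.
-/
import Cfsg.Agent.Lib.Helper44.O7.Defs
import Cfsg.Agent.Lib.Helper39.O7Iso

set_option autoImplicit false

namespace Cfsg.Agent.Lib.Helper44.O7
open Matrix Cfsg.Agent.Lib.Helper44

variable {F : Type*} [Field F]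

/-- `Ω(x₀² + x₁y₁ + x₂y₂ + x₃y₃) ≅ Ω(c · Σ xᵢ²)` for a suitable `c ≠ 0`. -/
theorem exists_omegaIso [Fintype F] (h2 : (2 : F) ≠ 0) :
    ∃ c : F, c ≠ 0 ∧ Nonempty (↥(Cfsg.Omega F (Cfsg.quadFormOdd 3 F)) ≃* ↥(OmG c)) :=
  Cfsg.Agent.Lib.Helper39.O7.exists_omegaIso h2

end Cfsg.Agent.Lib.Helper44.O7
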