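/-
helper44: S2647 project — module [MONORM].  The `sorry`s below are PLACEHOLDERS for a module farmed out on the board;
when the module lands, this file imports the prover's file and the `sorry` becomes `exact`.
All declarations live in `Cfsg.Agent.Lib.Helper44.O7`.
-/
import Cfsg.Agent.Lib.Helper44.O7.Defs
import Cfsg.Agent.Lib.Helper45.O7MonNorm

set_option autoImplicit false

namespace Cfsg.Agent.Lib.Helper44.O7
open Matrix Cfsg.Agent.Lib.Helper44

variable {F : Type*} [Field F]

/-- an isometry normalizing the diagonal group `E0` is monomial. -/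
theorem monomial_of_normalizes_E0 (h2 : (2 : F) ≠ 0) (c : F) (hc : c ≠ 0) (g : ↥(OG c))
    (hg : ∀ x ∈ E0 c, g⁻¹ * x * g ∈ E0 c) : ∃ (ε : Fin 7 → ℤˣ) (σ : Equiv.Perm (Fin 7)), g = mon c ε σ :=
  Cfsg.Agent.Lib.Helper45.O7.monomial_of_normalizes_E0 h2 c hc g hg

end Cfsg.Agent.Lib.Helper44.O7
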