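/-
helper44: S2647 project — module [NORMD8].  The `sorry`s below are PLACEHOLDERS for a module farmed out on the board;
when the module lands, this file imports the prover's file and the `sorry` becomes `exact`.
All declarations live in `Cfsg.Agent.Lib.Helper44.O7`.
-/
import Cfsg.Agent.Lib.Helper44.O7.Defs
import Cfsg.Agent.Lib.Helper33.O7NormD8

set_option autoImplicit false

namespace Cfsg.Agent.Lib.Helper44.O7

/-- `d8` is self-normalizing in `A₇`. -/
theorem mem_d8_of_normalizes (σ : Equiv.Perm (Fin 7)) (hs : Equiv.Perm.sign σ = 1)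
    (h : ∀ τ ∈ d8, σ * τ * σ⁻¹ ∈ d8) : σ ∈ d8 :=
  Cfsg.Agent.Lib.Helper33.O7.mem_d8_of_normalizes σ hs h

end Cfsg.Agent.Lib.Helper44.O7
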