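/-
helper44: S2647 project — assembly (N): `S0 c` is self-normalizing in `Ω₇`.
-/
import Cfsg.Agent.Lib.Helper44.O7.Mon
import Cfsg.Agent.Lib.Helper44.O7.MonNorm
import Cfsg.Agent.Lib.Helper44.O7.Abel
import Cfsg.Agent.Lib.Helper44.O7.NormD8

set_option autoImplicit false

namespace Cfsg.Agent.Lib.Helper44.O7
open Matrix Cfsg.Agent.Lib.Helper44

variable {F : Type*} [Field F]

theorem S0_le_OmG [Fintype F] (h2 : (2 : F) ≠ 0) (hns : ¬ IsSquare (2 : F)) (c : F) (hc : c ≠ 0) :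
    S0 c ≤ OmG c := by
  rintro _ ⟨ε, hε, σ, hσ, rfl⟩
  rw [mon_mem_OmG_iff h2 hns c hc]
  exact ⟨mem_evenSign.1 hε, sign_of_mem_d8 hσ⟩

/-- conjugation by an element normalizing `S0` preserves `E0`. -/
theorem conj_E0_of_normalizes (h2 : (2 : F) ≠ 0) (c : F) (g : ↥(OG c))
    (hg : ∀ x ∈ S0 c, g * x * g⁻¹ ∈ S0 c) : ∀ x ∈ E0 c, g * x * g⁻¹ ∈ E0 c := by
  set A : Subgroup ↥(OG c) := (E0 c).map (MulAut.conj g).toMonoidHom with hAdef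
  have hA : A = E0 c := by
    apply E0_unique_abelian h2 c A
    · rintro _ ⟨x, hx, rfl⟩
      exact hg x (E0_le_S0 c hx)
    · rintro _ ⟨x, hx, rfl⟩ _ ⟨y, hy, rfl⟩
      obtain ⟨ε, -, rfl⟩ := hx
      obtain ⟨ε', -, rfl⟩ := hy
      show (MulAut.conj g) (mon c ε 1) * (MulAut.conj g) (mon c ε' 1) =
        (MulAut.conj g) (mon c ε' 1) * (MulAut.conj g) (mon c ε 1)
      rw [← map_mul, ← map_mul]
      congr 1
      rw [mon_mul, mon_mul]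
      congr 1
      funext k
      simp only [inv_one, Equiv.Perm.one_apply]
      exact mul_comm _ _
    · rw [← card_E0 h2 c]
      exact Nat.card_congr ((E0 c).equivMapOfInjective _ (MulAut.conj g).injective).symm.toEquiv
  intro x hx
  rw [← hA]
  exact ⟨x, hx, rfl⟩

/-- **(N)**: an element of `Ω₇` normalizing `S0` lies in `S0`. -/
theorem mem_S0_of_normalizes [Fintype F] (h2 : (2 : F) ≠ 0) (hns : ¬ IsSquare (2 : F)) (c : F) (hc : c ≠ 0)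
    (g : ↥(OG c)) (hgΩ : g ∈ OmG c) (hg : ∀ x, x ∈ S0 c ↔ g * x * g⁻¹ ∈ S0 c) : g ∈ S0 c := by
  have hg1 : ∀ x ∈ S0 c, g * x * g⁻¹ ∈ S0 c := fun x hx => (hg x).1 hx
  have hg2 : ∀ x ∈ S0 c, g⁻¹ * x * g⁻¹⁻¹ ∈ S0 c := by
    intro x hx
    rw [hg]
    have : g * (g⁻¹ * x * g⁻¹⁻¹) * g⁻¹ = x := by group
    rw [this]
    exact hx
  have hE2 := conj_E0_of_normalizes h2 c g⁻¹ hg2
  obtain ⟨ε, σ, rfl⟩ := monomial_of_normalizes_E0 h2 c hc g (by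
    intro x hx
    have := hE2 x hx
    rwa [inv_inv] at this)
  obtain ⟨hε, hσ⟩ := (mon_mem_OmG_iff h2 hns c hc ε σ).1 hgΩ
  refine ⟨ε, mem_evenSign.2 hε, σ, ?_, rfl⟩
  apply mem_d8_of_normalizes σ hσ
  intro τ hτ
  have h1 : mon c 1 τ ∈ S0 c := ⟨1, evenSign.one_mem, τ, hτ, rfl⟩
  obtain ⟨ε'', h3, -⟩ := mon_conj c ε 1 σ τ
  have h4 := hg1 _ h1
  rw [h3] at h4
  obtain ⟨ε₃, -, τ', hτ', h5⟩ := h4
  rw [(mon_injective h2 c h5).2]
  exact hτ'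

end Cfsg.Agent.Lib.Helper44.O7
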