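/-
helper44: S2647 project — module [SC] (assembly): no proper nontrivial "strongly closed" subgroup of `S0 c` in `Ω₇`.
The `sorry` below is a PLACEHOLDER for a module farmed out on the board.
-/
import Cfsg.Agent.Lib.Helper44.O7.Mon
import Cfsg.Agent.Lib.Helper44.O7.Irred
import Cfsg.Agent.Lib.Helper44.O7.Center
import Cfsg.Agent.Lib.Helper44.O7.Conj
import Cfsg.Agent.Lib.Helper43.O7SC

set_option autoImplicit false

namespace Cfsg.Agent.Lib.Helper44.O7
open Matrix Cfsg.Agent.Lib.Helper44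

variable {F : Type*} [Field F]

/-- **(SC)**: a subgroup of `S0` closed under `Ω₇`-fusion inside `S0` is trivial or all of `S0`. -/
theorem strongly_closed_S0 [Fintype F] (h2 : (2 : F) ≠ 0) (hns : ¬ IsSquare (2 : F)) (c : F) (hc : c ≠ 0)
    (T : Subgroup ↥(OG c)) (hT : T ≤ S0 c)
    (hsc : ∀ x ∈ T, ∀ g ∈ OmG c, g * x * g⁻¹ ∈ S0 c → g * x * g⁻¹ ∈ T) : T = ⊥ ∨ T = S0 c :=
  Cfsg.Agent.Lib.Helper43.O7.strongly_closed_S0 h2 hns c hc T hT hsc

end Cfsg.Agent.Lib.Helper44.O7
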