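/-
helper44: S2647 project — module [TRANSPORT].  The `sorry`s below are PLACEHOLDERS for a module farmed out on the board;
when the module lands, this file imports the prover's file and the `sorry` becomes `exact`.
All declarations live in `Cfsg.Agent.Lib.Helper44.O7`.
-/
import Mathlib
import Cfsg.Prelude.Def_FusionSystem
import Cfsg.Agent.Lib.Helper67.O7Transport

set_option autoImplicit false

namespace Cfsg.Agent.Lib.Helper44.O7

/-- transport of "self-normalizing" and "no strongly closed subgroups" from a 2-subgroup `S0` of an isomorphic copy `H`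
to every Sylow 2-subgroup of `G` (so `S0` is Sylow in `H`: a self-normalizing 2-subgroup is Sylow). -/
theorem sylow_transport {G H : Type*} [Group G] [Group H] [Finite G] (e : G ≃* H) (S0 : Subgroup H)
    (hp : ∀ s ∈ S0, ∃ k : ℕ, s ^ 2 ^ k = 1)
    (hN : ∀ g : H, (∀ x, x ∈ S0 ↔ g * x * g⁻¹ ∈ S0) → g ∈ S0)
    (hSC : ∀ T : Subgroup H, T ≤ S0 → (∀ x ∈ T, ∀ g : H, g * x * g⁻¹ ∈ S0 → g * x * g⁻¹ ∈ T) → T = ⊥ ∨ T = S0)
    (S : Sylow 2 G) :
    Subgroup.normalizer ((S : Subgroup G) : Set G) = (S : Subgroup G) ∧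
      ∀ T : Subgroup G, (Cfsg.groupFusionSystem (S : Subgroup G)).StronglyClosed T →
        T = ⊥ ∨ T = (S : Subgroup G) :=
  Cfsg.Agent.Lib.Helper67.O7Transport.sylow_transport e S0 hp hN hSC S

end Cfsg.Agent.Lib.Helper44.O7
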